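import Groth.Agent.MilnorGlueLib.Basic

/-!
# Modules glued over a Milnor square, stated with abstract base changes
-/

set_option autoImplicit false
set_option backward.isDefEq.respectTransparency false
set_option backward.isDefEq.respectTransparency.types false
set_option maxHeartbeats 400000

universe u

open TensorProduct

namespace PinchBunLib

theorem bijective_of_isBaseChange {R B : Type u} [CommRing R] [CommRing B] [Algebra R B]
    {L T N : Type u} [AddCommGroup L] [Module R L] [AddCommGroup T] [Module R T] [Module B T] [IsScalarTower R B T]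
    [AddCommGroup N] [Module R N] [Module B N] [IsScalarTower R B N]
    {ψ : L →ₗ[R] T} {p : L →ₗ[R] N} (hψ : IsBaseChange B ψ) (hp : IsBaseChange B p)
    (θ : T →ₗ[B] N) (h : ∀ l, θ (ψ l) = p l) : Function.Bijective θ := by
  have he : θ = (hψ.equiv.symm.trans hp.equiv).toLinearMap := hψ.algHom_ext _ _ fun l => by
    rw [h, LinearEquiv.coe_coe, LinearEquiv.trans_apply, hψ.equiv_symm_apply, hp.equiv_tmul, one_smul]
  rw [he]
  exact LinearEquiv.bijective _

variable {R B A' A : Type u} [CommRing R] [CommRing B] [CommRing A'] [CommRing A]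
  [Algebra R B] [Algebra R A'] [Algebra B A] [Algebra A' A] [Algebra R A]
  [IsScalarTower R B A] [IsScalarTower R A' A]
  {N M' P L : Type u} [AddCommGroup N] [Module B N] [Module R N] [IsScalarTower R B N]
  [AddCommGroup M'] [Module A' M'] [Module R M'] [IsScalarTower R A' M']
  [AddCommGroup P] [Module A P] [Module B P] [Module A' P] [IsScalarTower B A P] [IsScalarTower A' A P]
  [AddCommGroup L] [Module R L]

/-- Compatible pairs give back both corners. -/
theorem isBaseChange_pairs (hsq : EtMil.IsFibreSquare R B A' A)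
    (g1 : N →ₗ[B] P) (g2 : M' →ₗ[A'] P) (h1 : IsBaseChange A g1) (h2 : IsBaseChange A g2)
    (p1 : L →ₗ[R] N) (p2 : L →ₗ[R] M')
    (hinj : ∀ l, p1 l = 0 → p2 l = 0 → l = 0) (hc : ∀ l, g1 (p1 l) = g2 (p2 l))
    (hex : ∀ n m, g1 n = g2 m → ∃ l, p1 l = n ∧ p2 l = m) :
    IsBaseChange B p1 ∧ IsBaseChange A' p2 := by
  let φ : A ⊗[B] N ≃ₗ[A] A ⊗[A'] M' := h1.equiv.trans h2.equiv.symm
  have hφ : ∀ (n : N) (m : M'), φ ((1 : A) ⊗ₜ[B] n) = (1 : A) ⊗ₜ[A'] m ↔ g1 n = g2 m := fun n m => by
    rw [show φ ((1 : A) ⊗ₜ[B] n) = h2.equiv.symm (h1.equiv ((1 : A) ⊗ₜ[B] n)) from rfl,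
      LinearEquiv.symm_apply_eq, h1.equiv_tmul, h2.equiv_tmul, one_smul, one_smul]
  let e0 : L →ₗ[R] EtMil.glue R φ := LinearMap.codRestrict _ (p1.prod p2) fun l => (hφ _ _).2 (hc l)
  have he0 : Function.Bijective e0 := by
    refine ⟨(injective_iff_map_eq_zero _).2 fun l hl => ?_, ?_⟩
    · have := congrArg Subtype.val hl
      exact hinj l (congrArg Prod.fst this) (congrArg Prod.snd this)
    · rintro ⟨⟨n, m⟩, h⟩
      obtain ⟨l, hl1, hl2⟩ := hex n m ((hφ n m).1 h)
      exact ⟨l, Subtype.ext (Prod.ext hl1 hl2)⟩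
  let e := LinearEquiv.ofBijective e0 he0
  constructor
  · exact IsBaseChange.of_equiv ((e.baseChange R B).trans
      (LinearEquiv.ofBijective _ (Groth.Agent.MilnorGlueLib.bijective_glueFst φ hsq))) fun l => by
      simp [e, e0, EtMil.glueFst]
  · exact IsBaseChange.of_equiv ((e.baseChange R A').trans
      (LinearEquiv.ofBijective _ (Groth.Agent.MilnorGlueLib.bijective_glueSnd φ hsq))) fun l => by
      simp [e, e0, EtMil.glueSnd]

end PinchBunLib
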