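import Groth.Agent.PinchBunLib.Alg
import Groth.Agent.S19888
import Groth.Agent.PinchModLib.Sheaf
import Groth.Agent.QCohLib.Push
import Groth.Agent.QCohLib.QCoh
import Groth.Agent.GrTildeLib.IsoCrit
import Groth.Agent.SeesawLib.Ranks
import Groth.Agent.FComplFreeLib.Main

/-!
# Gluing finite locally free modules on a pinching square
-/

set_option autoImplicit false
set_option linter.style.haveILetI false
set_option backward.isDefEq.respectTransparency false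
set_option backward.isDefEq.respectTransparency.types false
set_option maxHeartbeats 800000

noncomputable section

universe u

open CategoryTheory CategoryTheory.Limits AlgebraicGeometry TopologicalSpace Opposite
open KFlatLib (pb puSec puSecLE)
open Groth.Agent.S19888 (pre_le puSecLE_rfl xi xi_puSec pb_hom_ext)

namespace PinchBunLib

theorem appLE_congr_hom {X Y : Scheme.{u}} {f g : X ⟶ Y} (h : f = g) {U : Y.Opens} {V : X.Opens}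
    (e : V ≤ f ⁻¹ᵁ U) (e' : V ≤ g ⁻¹ᵁ U) : f.appLE U V e = g.appLE U V e' := by
  subst h; rfl

variable {X Z Z' X' : Scheme.{u}} (ι : Z ⟶ X) (q : Z ⟶ Z') (π : X ⟶ X') (ι' : Z' ⟶ X')
  (hw : ι ≫ π = q ≫ ι') (LX : X.Modules) (LZ : Z'.Modules) (σ : pb ι LX ≅ pb q LZ)

include hw in
theorem app_sq (V : X'.Opens) (r : Γ(X', V)) :
    q.appLE (ι' ⁻¹ᵁ V) (ι ⁻¹ᵁ π ⁻¹ᵁ V) (pre_le ι q π ι' hw V) (ι'.app V r) = ι.app (π ⁻¹ᵁ V) (π.app V r) := by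
  rw [ι'.app_eq_appLE, π.app_eq_appLE, ι.app_eq_appLE, ← CommRingCat.comp_apply, ← CommRingCat.comp_apply,
    Scheme.Hom.appLE_comp_appLE, Scheme.Hom.appLE_comp_appLE]
  rw [appLE_congr_hom hw.symm]

/-- The first comparison map. -/
def mapA : (Scheme.Modules.pushforward π).obj LX ⟶
    (Scheme.Modules.pushforward π).obj ((Scheme.Modules.pushforward ι).obj (pb q LZ)) :=
  (Scheme.Modules.pushforward π).map ((Scheme.Modules.pullbackPushforwardAdjunction ι).unit.app LX ≫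
    (Scheme.Modules.pushforward ι).map σ.hom)

theorem mapA_app (V : X'.Opens) (s : Γ(LX, π ⁻¹ᵁ V)) :
    (mapA ι q π LX LZ σ).app V s = σ.hom.app (ι ⁻¹ᵁ π ⁻¹ᵁ V) (puSec ι s) := rfl

/-- The second comparison map. -/
def mapB : (Scheme.Modules.pushforward ι').obj LZ ⟶
    (Scheme.Modules.pushforward π).obj ((Scheme.Modules.pushforward ι).obj (pb q LZ)) :=
  (Scheme.Modules.pushforward ι').map ((Scheme.Modules.pullbackPushforwardAdjunction q).unit.app LZ) ≫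
    (Scheme.Modules.pushforwardComp q ι').hom.app (pb q LZ) ≫
    (Scheme.Modules.pushforwardCongr hw.symm).hom.app (pb q LZ) ≫
    (Scheme.Modules.pushforwardComp ι π).inv.app (pb q LZ)

theorem mapB_app (V : X'.Opens) (t : Γ(LZ, ι' ⁻¹ᵁ V)) :
    (mapB ι q π ι' hw LZ).app V t = puSecLE q LZ (pre_le ι q π ι' hw V) t := by
  simp only [mapB, Scheme.Modules.Hom.comp_app, Scheme.Modules.pushforwardComp_hom_app_app,
    Scheme.Modules.pushforwardComp_inv_app_app, Scheme.Modules.pushforwardCongr_hom_app_app]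
  rfl

/-- The difference of the comparison maps. -/
def diffMap : (Scheme.Modules.pushforward π).obj LX ⊞ (Scheme.Modules.pushforward ι').obj LZ ⟶
    (Scheme.Modules.pushforward π).obj ((Scheme.Modules.pushforward ι).obj (pb q LZ)) :=
  biprod.desc (mapA ι q π LX LZ σ) (-(mapB ι q π ι' hw LZ))

/-- The glued module. -/
def Glued : X'.Modules := kernel (diffMap ι q π ι' hw LX LZ σ)

/-- The projection to the first corner. -/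
def pX : Glued ι q π ι' hw LX LZ σ ⟶ (Scheme.Modules.pushforward π).obj LX := kernel.ι _ ≫ biprod.fst

/-- The projection to the second corner. -/
def pZ : Glued ι q π ι' hw LX LZ σ ⟶ (Scheme.Modules.pushforward ι').obj LZ := kernel.ι _ ≫ biprod.snd

theorem p_comp : pX ι q π ι' hw LX LZ σ ≫ mapA ι q π LX LZ σ = pZ ι q π ι' hw LX LZ σ ≫ mapB ι q π ι' hw LZ := by
  have h : kernel.ι (diffMap ι q π ι' hw LX LZ σ) ≫ diffMap ι q π ι' hw LX LZ σ = 0 := kernel.condition _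
  conv at h => lhs; arg 2; rw [diffMap, biprod.desc_eq]
  rw [Preadditive.comp_add, Preadditive.comp_neg, Preadditive.comp_neg, add_neg_eq_zero] at h
  simpa [pX, pZ] using h

theorem p_comp_app (V : X'.Opens) (m : Γ(Glued ι q π ι' hw LX LZ σ, V)) :
    σ.hom.app (ι ⁻¹ᵁ π ⁻¹ᵁ V) (puSec ι ((pX ι q π ι' hw LX LZ σ).app V m)) =
      puSecLE q LZ (pre_le ι q π ι' hw V) ((pZ ι q π ι' hw LX LZ σ).app V m) := by
  rw [← mapB_app ι q π ι' hw LZ, ← mapA_app ι q π LX LZ σ]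
  exact congr(($(p_comp ι q π ι' hw LX LZ σ)).app V m)

theorem p_injective (V : X'.Opens) (m : Γ(Glued ι q π ι' hw LX LZ σ, V))
    (h1 : (pX ι q π ι' hw LX LZ σ).app V m = 0) (h2 : (pZ ι q π ι' hw LX LZ σ).app V m = 0) : m = 0 := by
  have e : kernel.ι (diffMap ι q π ι' hw LX LZ σ) =
      pX ι q π ι' hw LX LZ σ ≫ biprod.inl + pZ ι q π ι' hw LX LZ σ ≫ biprod.inr := by
    rw [pX, pZ, Category.assoc, Category.assoc, ← Preadditive.comp_add, biprod.total, Category.comp_id]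
  refine (injective_iff_map_eq_zero _).1
    (QCohLib.app_injective_of_mono (kernel.ι (diffMap ι q π ι' hw LX LZ σ)) V) m ?_
  have h3 := congr(($e).app V m)
  refine h3.trans ?_
  show (biprod.inl : (Scheme.Modules.pushforward π).obj LX ⟶
        (Scheme.Modules.pushforward π).obj LX ⊞ (Scheme.Modules.pushforward ι').obj LZ).app V
      ((pX ι q π ι' hw LX LZ σ).app V m) +
    (biprod.inr : (Scheme.Modules.pushforward ι').obj LZ ⟶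
        (Scheme.Modules.pushforward π).obj LX ⊞ (Scheme.Modules.pushforward ι').obj LZ).app V
      ((pZ ι q π ι' hw LX LZ σ).app V m) = 0
  rw [h1, h2, map_zero, map_zero, add_zero]

theorem p_exists (V : X'.Opens) (s : Γ(LX, π ⁻¹ᵁ V)) (t : Γ(LZ, ι' ⁻¹ᵁ V))
    (h : σ.hom.app (ι ⁻¹ᵁ π ⁻¹ᵁ V) (puSec ι s) = puSecLE q LZ (pre_le ι q π ι' hw V) t) :
    ∃ m : Γ(Glued ι q π ι' hw LX LZ σ, V),
      (pX ι q π ι' hw LX LZ σ).app V m = s ∧ (pZ ι q π ι' hw LX LZ σ).app V m = t := by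
  let A := (Scheme.Modules.pushforward π).obj LX
  let B := (Scheme.Modules.pushforward ι').obj LZ
  let z : Γ(A ⊞ B, V) := (biprod.inl : A ⟶ A ⊞ B).app V s + (biprod.inr : B ⟶ A ⊞ B).app V t
  have hz : (diffMap ι q π ι' hw LX LZ σ).app V z = 0 := by
    rw [map_add]
    show ((biprod.inl : A ⟶ A ⊞ B) ≫ diffMap ι q π ι' hw LX LZ σ).app V s +
      ((biprod.inr : B ⟶ A ⊞ B) ≫ diffMap ι q π ι' hw LX LZ σ).app V t = 0
    rw [diffMap, biprod.inl_desc, biprod.inr_desc]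
    show (mapA ι q π LX LZ σ).app V s + -(mapB ι q π ι' hw LZ).app V t = 0
    rw [mapA_app, mapB_app, h, add_neg_cancel]
  obtain ⟨m, hm⟩ := QCohLib.exists_of_app_eq_zero
    (S := ShortComplex.mk _ _ (kernel.condition (diffMap ι q π ι' hw LX LZ σ)))
    (ShortComplex.exact_of_f_is_kernel _ (kernelIsKernel _)) inferInstance z hz
  replace hm : (kernel.ι (diffMap ι q π ι' hw LX LZ σ)).app V m = z := hm
  refine ⟨m, ?_, ?_⟩
  · show (biprod.fst : A ⊞ B ⟶ A).app V ((kernel.ι (diffMap ι q π ι' hw LX LZ σ)).app V m) = s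
    rw [hm, map_add]
    show ((biprod.inl : A ⟶ A ⊞ B) ≫ biprod.fst).app V s + ((biprod.inr : B ⟶ A ⊞ B) ≫ biprod.fst).app V t = s
    rw [biprod.inl_fst, biprod.inr_fst]
    exact add_zero s
  · show (biprod.snd : A ⊞ B ⟶ B).app V ((kernel.ι (diffMap ι q π ι' hw LX LZ σ)).app V m) = t
    rw [hm, map_add]
    show ((biprod.inl : A ⟶ A ⊞ B) ≫ biprod.snd).app V s + ((biprod.inr : B ⟶ A ⊞ B) ≫ biprod.snd).app V t = t
    rw [biprod.inl_snd, biprod.inr_snd]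
    exact zero_add t

/-- The adjunct of the first projection. -/
def eX : pb π (Glued ι q π ι' hw LX LZ σ) ⟶ LX :=
  ((Scheme.Modules.pullbackPushforwardAdjunction π).homEquiv _ _).symm (pX ι q π ι' hw LX LZ σ)

/-- The adjunct of the second projection. -/
def eZ : pb ι' (Glued ι q π ι' hw LX LZ σ) ⟶ LZ :=
  ((Scheme.Modules.pullbackPushforwardAdjunction ι').homEquiv _ _).symm (pZ ι q π ι' hw LX LZ σ)

theorem adjunct_puSec {S T : Scheme.{u}} (g : S ⟶ T) {M : T.Modules} {P : S.Modules}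
    (φ : M ⟶ (Scheme.Modules.pushforward g).obj P) (V : T.Opens) (m : Γ(M, V)) :
    (((Scheme.Modules.pullbackPushforwardAdjunction g).homEquiv M P).symm φ).app (g ⁻¹ᵁ V) (puSec g m) =
      φ.app V m := by
  have h : (Scheme.Modules.pullbackPushforwardAdjunction g).homEquiv M P
      (((Scheme.Modules.pullbackPushforwardAdjunction g).homEquiv M P).symm φ) = φ := Equiv.apply_symm_apply _ _
  rw [Adjunction.homEquiv_unit] at h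
  exact congr(($h).app V m)

theorem compat :
    xi ι q π ι' hw (Glued ι q π ι' hw LX LZ σ) ≫ (Scheme.Modules.pullback q).map (eZ ι q π ι' hw LX LZ σ) =
      (Scheme.Modules.pullback ι).map (eX ι q π ι' hw LX LZ σ) ≫ σ.hom := by
  apply ((Scheme.Modules.pullbackPushforwardAdjunction ι).homEquiv _ _).injective
  refine pb_hom_ext π fun V m => ?_
  rw [Adjunction.homEquiv_unit, Adjunction.homEquiv_unit]
  show ((Scheme.Modules.pullback q).map (eZ ι q π ι' hw LX LZ σ)).app (ι ⁻¹ᵁ π ⁻¹ᵁ V)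
      ((xi ι q π ι' hw (Glued ι q π ι' hw LX LZ σ)).app (ι ⁻¹ᵁ π ⁻¹ᵁ V) (puSec ι (puSec π m))) =
    σ.hom.app (ι ⁻¹ᵁ π ⁻¹ᵁ V)
      (((Scheme.Modules.pullback ι).map (eX ι q π ι' hw LX LZ σ)).app (ι ⁻¹ᵁ π ⁻¹ᵁ V) (puSec ι (puSec π m)))
  rw [KFlatLib.puSec_natural ι (eX ι q π ι' hw LX LZ σ), ← puSecLE_rfl ι _ (puSec π m), xi_puSec,
    CohCmpLib.puSecLE_natural]
  have hx : (eX ι q π ι' hw LX LZ σ).app (π ⁻¹ᵁ V) (puSec π m) = (pX ι q π ι' hw LX LZ σ).app V m :=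
    adjunct_puSec π _ V m
  have hz : (eZ ι q π ι' hw LX LZ σ).app (ι' ⁻¹ᵁ V) (puSec ι' m) = (pZ ι q π ι' hw LX LZ σ).app V m :=
    adjunct_puSec ι' _ V m
  rw [hx, hz]
  exact (p_comp_app ι q π ι' hw LX LZ σ V m).symm

theorem isQCoh_glued [IsAffineHom π] [IsAffineHom ι] [IsAffineHom ι'] [Coh.IsQCoh LX] [Coh.IsQCoh LZ] :
    Coh.IsQCoh (Glued ι q π ι' hw LX LZ σ) := by
  haveI := KFlatLib.isQCoh_pullback q LZ
  haveI := QCohLib.isQCoh_pushforward ι (pb q LZ)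
  haveI := QCohLib.isQCoh_pushforward π LX
  haveI := QCohLib.isQCoh_pushforward ι' LZ
  haveI := QCohLib.isQCoh_pushforward π ((Scheme.Modules.pushforward ι).obj (pb q LZ))
  haveI := QCohLib.isQCoh_biprod ((Scheme.Modules.pushforward π).obj LX) ((Scheme.Modules.pushforward ι').obj LZ)
  exact QCohLib.isQCoh_kernel _

theorem bijective_app [IsClosedImmersion ι] [IsClosedImmersion ι'] [IsAffineHom π]
    [Coh.IsQCoh LX] [Coh.IsQCoh LZ]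
    (hpo : IsPushout ((Scheme.forgetToLocallyRingedSpace ⋙ LocallyRingedSpace.forgetToSheafedSpace).map ι)
      ((Scheme.forgetToLocallyRingedSpace ⋙ LocallyRingedSpace.forgetToSheafedSpace).map q)
      ((Scheme.forgetToLocallyRingedSpace ⋙ LocallyRingedSpace.forgetToSheafedSpace).map π)
      ((Scheme.forgetToLocallyRingedSpace ⋙ LocallyRingedSpace.forgetToSheafedSpace).map ι'))
    {V : X'.Opens} (hV : IsAffineOpen V) :
    Function.Bijective ((eX ι q π ι' hw LX LZ σ).app (π ⁻¹ᵁ V)) ∧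
      Function.Bijective ((eZ ι q π ι' hw LX LZ σ).app (ι' ⁻¹ᵁ V)) := by
  haveI := isQCoh_glued ι q π ι' hw LX LZ σ
  let M := Glued ι q π ι' hw LX LZ σ
  obtain ⟨hi, hl⟩ := RSPushoutLib.scheme_sections hw hpo V
  have hVX : IsAffineOpen (π ⁻¹ᵁ V) := hV.preimage π
  have hVY : IsAffineOpen (ι' ⁻¹ᵁ V) := hV.preimage ι'
  have hVW : IsAffineOpen (ι ⁻¹ᵁ π ⁻¹ᵁ V) := hVX.preimage ι
  have hle := pre_le ι q π ι' hw V
  letI aB : Algebra Γ(X', V) Γ(Z', ι' ⁻¹ᵁ V) := (ι'.app V).hom.toAlgebra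
  letI aA' : Algebra Γ(X', V) Γ(X, π ⁻¹ᵁ V) := (π.app V).hom.toAlgebra
  letI aBA : Algebra Γ(Z', ι' ⁻¹ᵁ V) Γ(Z, ι ⁻¹ᵁ π ⁻¹ᵁ V) := (q.appLE _ _ hle).hom.toAlgebra
  letI aAA : Algebra Γ(X, π ⁻¹ᵁ V) Γ(Z, ι ⁻¹ᵁ π ⁻¹ᵁ V) := (ι.app (π ⁻¹ᵁ V)).hom.toAlgebra
  letI aRA : Algebra Γ(X', V) Γ(Z, ι ⁻¹ᵁ π ⁻¹ᵁ V) := ((ι.app (π ⁻¹ᵁ V)).hom.comp (π.app V).hom).toAlgebra
  haveI : IsScalarTower Γ(X', V) Γ(X, π ⁻¹ᵁ V) Γ(Z, ι ⁻¹ᵁ π ⁻¹ᵁ V) := IsScalarTower.of_algebraMap_eq fun _ => rfl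
  haveI : IsScalarTower Γ(X', V) Γ(Z', ι' ⁻¹ᵁ V) Γ(Z, ι ⁻¹ᵁ π ⁻¹ᵁ V) :=
    IsScalarTower.of_algebraMap_eq fun r => (app_sq ι q π ι' hw V r).symm
  letI mN : Module Γ(X', V) Γ(LZ, ι' ⁻¹ᵁ V) := Module.compHom _ (ι'.app V).hom
  haveI : IsScalarTower Γ(X', V) Γ(Z', ι' ⁻¹ᵁ V) Γ(LZ, ι' ⁻¹ᵁ V) :=
    IsScalarTower.of_algebraMap_smul fun _ _ => rfl
  letI mM : Module Γ(X', V) Γ(LX, π ⁻¹ᵁ V) := Module.compHom _ (π.app V).hom
  haveI : IsScalarTower Γ(X', V) Γ(X, π ⁻¹ᵁ V) Γ(LX, π ⁻¹ᵁ V) :=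
    IsScalarTower.of_algebraMap_smul fun _ _ => rfl
  letI mPB : Module Γ(Z', ι' ⁻¹ᵁ V) Γ(pb q LZ, ι ⁻¹ᵁ π ⁻¹ᵁ V) := Module.compHom _ (q.appLE _ _ hle).hom
  haveI : IsScalarTower Γ(Z', ι' ⁻¹ᵁ V) Γ(Z, ι ⁻¹ᵁ π ⁻¹ᵁ V) Γ(pb q LZ, ι ⁻¹ᵁ π ⁻¹ᵁ V) :=
    IsScalarTower.of_algebraMap_smul fun _ _ => rfl
  letI mPA : Module Γ(X, π ⁻¹ᵁ V) Γ(pb q LZ, ι ⁻¹ᵁ π ⁻¹ᵁ V) := Module.compHom _ (ι.app (π ⁻¹ᵁ V)).hom
  haveI : IsScalarTower Γ(X, π ⁻¹ᵁ V) Γ(Z, ι ⁻¹ᵁ π ⁻¹ᵁ V) Γ(pb q LZ, ι ⁻¹ᵁ π ⁻¹ᵁ V) :=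
    IsScalarTower.of_algebraMap_smul fun _ _ => rfl
  letI mIA : Module Γ(X, π ⁻¹ᵁ V) Γ(pb ι LX, ι ⁻¹ᵁ π ⁻¹ᵁ V) := Module.compHom _ (ι.app (π ⁻¹ᵁ V)).hom
  haveI : IsScalarTower Γ(X, π ⁻¹ᵁ V) Γ(Z, ι ⁻¹ᵁ π ⁻¹ᵁ V) Γ(pb ι LX, ι ⁻¹ᵁ π ⁻¹ᵁ V) :=
    IsScalarTower.of_algebraMap_smul fun _ _ => rfl
  -- the Milnor square
  have hsurj : Function.Surjective (algebraMap Γ(X, π ⁻¹ᵁ V) Γ(Z, ι ⁻¹ᵁ π ⁻¹ᵁ V)) :=
    ι.app_surjective (π ⁻¹ᵁ V) hVX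
  have hsq : EtMil.IsFibreSquare Γ(X', V) Γ(Z', ι' ⁻¹ᵁ V) Γ(X, π ⁻¹ᵁ V) Γ(Z, ι ⁻¹ᵁ π ⁻¹ᵁ V) :=
    ⟨hsurj, fun b a hab => by
      obtain ⟨p, hp1, hp2⟩ := hl a b hab.symm
      refine ⟨p, ⟨hp2, hp1⟩, fun r hr => sub_eq_zero.1 (hi _ ?_ ?_)⟩
      · rw [map_sub, hp1, show π.app V r = a from hr.2, sub_self]
      · rw [map_sub, hp2, show ι'.app V r = b from hr.1, sub_self]⟩
  -- the two base changes
  let g1 : Γ(LZ, ι' ⁻¹ᵁ V) →ₗ[Γ(Z', ι' ⁻¹ᵁ V)] Γ(pb q LZ, ι ⁻¹ᵁ π ⁻¹ᵁ V) :=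
    { toFun := puSecLE q LZ hle
      map_add' := map_add _
      map_smul' := fun r m => KFlatLib.puSecLE_smul q LZ hle r m }
  have h1 : IsBaseChange Γ(Z, ι ⁻¹ᵁ π ⁻¹ᵁ V) g1 :=
    KFlatLib.isBaseChange_puSec q LZ hVY hVW hle (fun _ => rfl) g1 fun _ => rfl
  let g0 : Γ(LX, π ⁻¹ᵁ V) →ₗ[Γ(X, π ⁻¹ᵁ V)] Γ(pb ι LX, ι ⁻¹ᵁ π ⁻¹ᵁ V) :=
    { toFun := puSecLE ι LX le_rfl
      map_add' := map_add _
      map_smul' := fun r m => by
        rw [KFlatLib.puSecLE_smul, RingHom.id_apply, Scheme.Hom.appLE_eq_app]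
        rfl }
  have h0 : IsBaseChange Γ(Z, ι ⁻¹ᵁ π ⁻¹ᵁ V) g0 :=
    KFlatLib.isBaseChange_puSec ι LX hVX hVW le_rfl (fun r => by rw [Scheme.Hom.appLE_eq_app]; rfl) g0 fun _ => rfl
  let τ : Γ(pb ι LX, ι ⁻¹ᵁ π ⁻¹ᵁ V) ≃ₗ[Γ(Z, ι ⁻¹ᵁ π ⁻¹ᵁ V)] Γ(pb q LZ, ι ⁻¹ᵁ π ⁻¹ᵁ V) :=
    { toFun := σ.hom.app (ι ⁻¹ᵁ π ⁻¹ᵁ V)
      map_add' := map_add _
      map_smul' := fun r m => Scheme.Modules.Hom.app_smul σ.hom r m
      invFun := σ.inv.app (ι ⁻¹ᵁ π ⁻¹ᵁ V)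
      left_inv := fun m => congr(($σ.hom_inv_id).app (ι ⁻¹ᵁ π ⁻¹ᵁ V) m)
      right_inv := fun m => congr(($σ.inv_hom_id).app (ι ⁻¹ᵁ π ⁻¹ᵁ V) m) }
  let g2 : Γ(LX, π ⁻¹ᵁ V) →ₗ[Γ(X, π ⁻¹ᵁ V)] Γ(pb q LZ, ι ⁻¹ᵁ π ⁻¹ᵁ V) :=
    (τ.toLinearMap.restrictScalars Γ(X, π ⁻¹ᵁ V)).comp g0
  have h2 : IsBaseChange Γ(Z, ι ⁻¹ᵁ π ⁻¹ᵁ V) g2 :=
    IsBaseChange.of_equiv (h0.equiv.trans τ) fun m => by simp [g2, h0.equiv_tmul]
  -- the two projections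
  let p1 : Γ(M, V) →ₗ[Γ(X', V)] Γ(LZ, ι' ⁻¹ᵁ V) :=
    { toFun := (pZ ι q π ι' hw LX LZ σ).app V
      map_add' := map_add _
      map_smul' := fun r m => Scheme.Modules.Hom.app_smul _ r m }
  let p2 : Γ(M, V) →ₗ[Γ(X', V)] Γ(LX, π ⁻¹ᵁ V) :=
    { toFun := (pX ι q π ι' hw LX LZ σ).app V
      map_add' := map_add _
      map_smul' := fun r m => Scheme.Modules.Hom.app_smul _ r m }
  have hpu : ∀ s : Γ(LX, π ⁻¹ᵁ V), g2 s = σ.hom.app (ι ⁻¹ᵁ π ⁻¹ᵁ V) (puSec ι s) := fun s => by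
    show σ.hom.app (ι ⁻¹ᵁ π ⁻¹ᵁ V) (puSecLE ι LX le_rfl s) = _
    rw [puSecLE_rfl]
  obtain ⟨hb1, hb2⟩ := isBaseChange_pairs hsq g1 g2 h1 h2 p1 p2
    (fun m hm hm' => p_injective ι q π ι' hw LX LZ σ V m hm' hm)
    (fun m => ((hpu _).trans (p_comp_app ι q π ι' hw LX LZ σ V m)).symm)
    (fun n m h => by
      obtain ⟨l, hl1, hl2⟩ := p_exists ι q π ι' hw LX LZ σ V m n ((hpu m).symm.trans h.symm)
      exact ⟨l, hl2, hl1⟩)
  constructor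
  · letI : Module Γ(X', V) Γ(pb π M, π ⁻¹ᵁ V) := Module.compHom _ (π.app V).hom
    haveI : IsScalarTower Γ(X', V) Γ(X, π ⁻¹ᵁ V) Γ(pb π M, π ⁻¹ᵁ V) :=
      IsScalarTower.of_algebraMap_smul fun _ _ => rfl
    let ψ : Γ(M, V) →ₗ[Γ(X', V)] Γ(pb π M, π ⁻¹ᵁ V) :=
      { toFun := puSecLE π M le_rfl
        map_add' := map_add _
        map_smul' := fun r m => by
          rw [KFlatLib.puSecLE_smul, RingHom.id_apply, Scheme.Hom.appLE_eq_app]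
          rfl }
    have hψ : IsBaseChange Γ(X, π ⁻¹ᵁ V) ψ :=
      KFlatLib.isBaseChange_puSec π M hV hVX le_rfl (fun r => by rw [Scheme.Hom.appLE_eq_app]; rfl) ψ fun _ => rfl
    let θ : Γ(pb π M, π ⁻¹ᵁ V) →ₗ[Γ(X, π ⁻¹ᵁ V)] Γ(LX, π ⁻¹ᵁ V) :=
      { toFun := (eX ι q π ι' hw LX LZ σ).app (π ⁻¹ᵁ V)
        map_add' := map_add _
        map_smul' := fun r m => Scheme.Modules.Hom.app_smul _ r m }
    exact bijective_of_isBaseChange hψ hb2 θ fun m => by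
      show (eX ι q π ι' hw LX LZ σ).app (π ⁻¹ᵁ V) (puSecLE π M le_rfl m) = _
      rw [puSecLE_rfl]
      exact adjunct_puSec π _ V m
  · letI : Module Γ(X', V) Γ(pb ι' M, ι' ⁻¹ᵁ V) := Module.compHom _ (ι'.app V).hom
    haveI : IsScalarTower Γ(X', V) Γ(Z', ι' ⁻¹ᵁ V) Γ(pb ι' M, ι' ⁻¹ᵁ V) :=
      IsScalarTower.of_algebraMap_smul fun _ _ => rfl
    let ψ : Γ(M, V) →ₗ[Γ(X', V)] Γ(pb ι' M, ι' ⁻¹ᵁ V) :=
      { toFun := puSecLE ι' M le_rfl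
        map_add' := map_add _
        map_smul' := fun r m => by
          rw [KFlatLib.puSecLE_smul, RingHom.id_apply, Scheme.Hom.appLE_eq_app]
          rfl }
    have hψ : IsBaseChange Γ(Z', ι' ⁻¹ᵁ V) ψ :=
      KFlatLib.isBaseChange_puSec ι' M hV hVY le_rfl (fun r => by rw [Scheme.Hom.appLE_eq_app]; rfl) ψ fun _ => rfl
    let θ : Γ(pb ι' M, ι' ⁻¹ᵁ V) →ₗ[Γ(Z', ι' ⁻¹ᵁ V)] Γ(LZ, ι' ⁻¹ᵁ V) :=
      { toFun := (eZ ι q π ι' hw LX LZ σ).app (ι' ⁻¹ᵁ V)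
        map_add' := map_add _
        map_smul' := fun r m => Scheme.Modules.Hom.app_smul _ r m }
    exact bijective_of_isBaseChange hψ hb1 θ fun m => by
      show (eZ ι q π ι' hw LX LZ σ).app (ι' ⁻¹ᵁ V) (puSecLE ι' M le_rfl m) = _
      rw [puSecLE_rfl]
      exact adjunct_puSec ι' _ V m

end PinchBunLib

end
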